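import Cfsg.Agent.Helper28.L37C.LvC1_0
import Cfsg.Agent.Helper28.L37C.LvC2_0
import Cfsg.Agent.Helper28.L37C.LvC3_0
import Cfsg.Agent.Helper28.L37C.LvC4_0
import Cfsg.Agent.Helper28.L37C.LvC5_0
set_option autoImplicit false
set_option maxRecDepth 1000000
namespace Cfsg.Agent.Helper28.L37C
open Cfsg.Agent.Helper28 Cfsg.Agent.Helper28.L37B
theorem orb_ok1 : checkOrbW ws1 2 ptabs orb1 = true := by
  have h0 : allLt (orbOkW ws1 2 ptabs orb1) 57 = true := allLt_extend _ 0 57 57 rfl (allLt_zero _) orb_ok1_p0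
  exact h0
theorem orb_ok2 : checkOrbW ws2 3 ptabs orb2 = true := by
  have h0 : allLt (orbOkW ws2 3 ptabs orb2) 57 = true := allLt_extend _ 0 57 57 rfl (allLt_zero _) orb_ok2_p0
  exact h0
theorem orb_ok3 : checkOrbW ws3 2 ptabs orb3 = true := by
  have h0 : allLt (orbOkW ws3 2 ptabs orb3) 57 = true := allLt_extend _ 0 57 57 rfl (allLt_zero _) orb_ok3_p0
  exact h0
theorem orb_ok4 : checkOrbW ws4 2 ptabs orb4 = true := by
  have h0 : allLt (orbOkW ws4 2 ptabs orb4) 57 = true := allLt_extend _ 0 57 57 rfl (allLt_zero _) orb_ok4_p0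
  exact h0
theorem orb_ok5 : checkOrbW ws5 1 ptabs orb5 = true := by
  have h0 : allLt (orbOkW ws5 1 ptabs orb5) 57 = true := allLt_extend _ 0 57 57 rfl (allLt_zero _) orb_ok5_p0
  exact h0

theorem lower_bound : 1876896 ≤ Nat.card ↥(KK idx 2 ptabs inv_ok layout.hL) := by
  have h5 := level_ge gen idx 2 ptabs inv_ok layout.hL layout.hig ws5 1 let_ok5 [37, 15, 1, 0] fix_ok5 orb5 orb_ok5 34 (by decide +kernel) 2 1 cnt5 (one_le_card_sub _)
  have h4 := level_ge gen idx 2 ptabs inv_ok layout.hL layout.hig ws4 2 let_ok4 [15, 1, 0] fix_ok4 orb4 orb_ok4 37 (by decide +kernel) 6 (2 * 1) cnt4 h5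
  have h3 := level_ge gen idx 2 ptabs inv_ok layout.hL layout.hig ws3 2 let_ok3 [1, 0] fix_ok3 orb3 orb_ok3 15 (by decide +kernel) 49 (6 * 2 * 1) cnt3 h4
  have h2 := level_ge gen idx 2 ptabs inv_ok layout.hL layout.hig ws2 3 let_ok2 [0] fix_ok2 orb2 orb_ok2 1 (by decide +kernel) 56 (49 * 6 * 2 * 1) cnt2 h3
  have h1 := level_ge gen idx 2 ptabs inv_ok layout.hL layout.hig ws1 2 let_ok1 [] fix_ok1 orb1 orb_ok1 0 (by decide +kernel) 57 (56 * 49 * 6 * 2 * 1) cnt1 h2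
  rw [card_level0N]
  exact le_trans (by norm_num) h1

end Cfsg.Agent.Helper28.L37C
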