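import Cfsg.Agent.Helper28.L37B.Main
import Cfsg.Agent.Helper28.CosetChain
import Cfsg.Agent.Helper28.CosetBig
set_option autoImplicit false
set_option maxRecDepth 1000000
namespace Cfsg.Agent.Helper28.L37C
open Cfsg.Agent.Helper28 Cfsg.Agent.Helper28.L37B
def oleaf1_0 : Nat := 0x90000037000000008010003100000000801000300000000090100037000000009010003600000000a01000380000000090000036000000007010002a000000007010002800000000a000003400000000b010003300000000b000003300000000b0000025000000007000002800000000601000230000000080000031000000006010002100000000b010002f00000000c010002c00000000a010001f000000008010002b000000005010001d0000000060000023000000005010001c00000000c010002700000000901000240000000080100018000000004010001500000000400000150000000060000021000000004000001200000000a000001f0000000070100016000000005010001a000000006010000f000000003010000e000000003000000e0000000040100014000000003010000c0000000080000018000000003000000c000000005010000a000000002010000900000000200000090000000020100004000000006000000f000000004010001000000000101000000000000040100007000000003010000d000000005010000800000000400000070000000010000000000000007010000b0000000080000003000000005000000a000000000000000000000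
def orbTr1 : Tr := (.leaf oleaf1_0)
/-- the orbit records of level 1 -/
noncomputable def orb1 : Nat → Nat := fun i => orbTr1.look 10 1023 64 18446744073709551615 i
def wsTr1 : WTr := (.node (.leaf [0]) (.leaf [2]))
/-- the words of level 1 -/
noncomputable def ws1 : Nat → List Nat := wsTr1.get
end Cfsg.Agent.Helper28.L37C
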