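import Cfsg.Agent.Helper28.L37B.Main
import Cfsg.Agent.Helper28.CosetChain
import Cfsg.Agent.Helper28.CosetBig
set_option autoImplicit false
set_option maxRecDepth 1000000
namespace Cfsg.Agent.Helper28.L37C
open Cfsg.Agent.Helper28 Cfsg.Agent.Helper28.L37B
def oleaf2_0 : Nat := 0x40200022000010005010001e00001000501000230000100050100015000010006000001f0000100030200018000010003020001d00001000301000180000100050000023000010004020000e00001000500000200000100040200032000010004010000e00001000400000220000100050000028000010006010001b00001000400000310000100050200028000010005010002d000010005010000f0000100040200004000010004000000d0000100030200005000010005010000200001000401000330000100050100028000010004020003100001000201000090000100040000032000010005000001e000010004020000700001000400000330000100020000009000010002010000c000010002020000c0000100040000012000010005010001a000010005020000f0000100030000006000010005020001a0000100030100006000010004000000a0000100030000016000010003010001600001000102000010000100040100012000010003000001700001000100000010000100040000007000010003000001d0000100020200009000010002000000c0000100030000005000010005000002c00001000402000330000100000000000000010000000000000000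
def orbTr2 : Tr := (.leaf oleaf2_0)
/-- the orbit records of level 2 -/
noncomputable def orb2 : Nat → Nat := fun i => orbTr2.look 10 1023 64 18446744073709551615 i
def wsTr2 : WTr := (.node (.node (.leaf [3, 3, 0, 2, 2, 2]) (.leaf [0, 3, 0, 2, 2, 2, 2, 0])) (.leaf [0, 3, 3, 0, 2, 2, 0]))
/-- the words of level 2 -/
noncomputable def ws2 : Nat → List Nat := wsTr2.get
end Cfsg.Agent.Helper28.L37C
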