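import Cfsg.Agent.Helper28.L37B.Main
import Cfsg.Agent.Helper28.CosetChain
import Cfsg.Agent.Helper28.CosetBig
set_option autoImplicit false
set_option maxRecDepth 1000000
namespace Cfsg.Agent.Helper28.L37C
open Cfsg.Agent.Helper28 Cfsg.Agent.Helper28.L37B
def oleaf3_0 : Nat := 0x380001010000f0000f000501000320000f0001000000f0000f000500000060000f000601000150000f000400000280000f000501000060000f000601000310000f000000000000002f000000000000002e0005010000b0000f0004010001f0000f000401000270000f000000000000002a0005000000d0000f000300000120000f000301000120000f000400000110000f0004010001c0000f00000000000000240005000000b0000f000500000260000f000501000250000f0006000001e0000f0003010001b0000f000501000260000f000500000020000f0003000001b0000f000201000350000f0005000002b0000f000600000150000f0006010000c0000f000401000130000f0003000000e0000f000501000100000f000200000350000f000301000140000f000201000370000f000300000140000f000401000110000f000000000000000f000200000370000f000400000130000f000501000080000f000400000160000f000601000090000f000501000020000f0004000001c0000f0000000000000007000400000270000f000600000230000f000500000100000f000500000170000f0004000001f0000f00000000000000010000000000000000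
def orbTr3 : Tr := (.leaf oleaf3_0)
/-- the orbit records of level 3 -/
noncomputable def orb3 : Nat → Nat := fun i => orbTr3.look 10 1023 64 18446744073709551615 i
def wsTr3 : WTr := (.node (.leaf [1, 3, 3, 1, 2, 2, 1, 3, 3, 3, 1, 2, 2, 1, 3, 3, 3, 3, 1, 2, 1, 3, 3, 3, 1, 2, 2, 1, 3, 3, 1, 2, 2, 1, 1, 3, 3, 3, 3, 1, 2, 1, 1, 3, 3, 3, 3, 1, 2, 1, 3, 3, 3, 1, 3, 1, 2, 2]) (.leaf [0, 3, 0, 2, 2, 2, 2, 0, 0, 3, 0, 2, 2, 2, 2, 0, 0, 3, 0, 2, 2, 2, 2, 0, 3, 3, 0, 2, 2, 2, 1, 3, 3, 3, 3, 1, 2, 1, 3, 3, 0, 2, 0, 2, 0, 2, 2, 2, 1, 3, 3, 1, 2, 2, 1, 3, 3, 0, 2, 2, 2, 1, 3, 3, 3, 3, 1, 2, 1, 1, 3, 3, 1, 2, 2, 1, 1, 3, 3, 1, 2, 2, 1, 1, 3, 3, 1, 2, 2, 1, 3, 3, 0, 2, 0, 2, 2, 2, 0, 3, 0, 2, 2, 2, 2, 0, 3, 3, 3, 1, 2, 2, 1, 3, 3, 1, 2, 2, 1, 3, 3, 3, 1, 3, 1, 2, 2, 1, 3, 3, 3, 3, 1, 2, 1, 1, 3, 3, 3, 3, 1, 2, 1]))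
/-- the words of level 3 -/
noncomputable def ws3 : Nat → List Nat := wsTr3.get
end Cfsg.Agent.Helper28.L37C
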