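import Cfsg.Agent.Helper28.L37Sub
import Cfsg.Agent.Helper28.L37A.Main
import Cfsg.Agent.Helper28.L37K.Main
set_option autoImplicit false
set_option linter.constructorNameAsVariable false
namespace Cfsg.Agent.Helper28.L37C
open Cfsg.Agent.Helper28 Cfsg.Spor

theorem hY0 : L37A.Y = Set.range (fun z => FreeGroup.of (L37KD.iota z)) := by
  ext y
  constructor
  · intro (h : y ∈ L37A.Ylist)
    simp only [L37A.Ylist, List.mem_cons, List.not_mem_nil, or_false] at h
    rcases h with rfl
    exact ⟨.x, rfl⟩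
  · rintro ⟨z, rfl⟩
    show _ ∈ L37A.Ylist
    cases z <;> simp [L37A.Ylist, L37KD.iota]

theorem hY1 : L37K.Y = ∅ := by
  ext y; simp [L37K.Ylist]

theorem upper1 : Finite (PresentedGroup L37K.R) ∧ Nat.card (PresentedGroup L37K.R) = 19 :=
  card_of_index_bot L37K.R L37K.Y hY1 19 (by omega) L37K.main_index

theorem upper0 : Finite (PresentedGroup L37A.R) ∧
    Nat.card (PresentedGroup L37A.R) ≤ 98784 * 19 := by
  obtain ⟨h1, h2, -⟩ := card_le_of_link L37KD.iota L37K.R L37A.R L37KD.hrels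
    L37A.Y hY0 98784 (19) (by omega) L37A.main_index upper1.1 (le_of_eq upper1.2)
  exact ⟨h1, h2⟩

theorem upper : Finite (PresentedGroup L37A.R) ∧ Nat.card (PresentedGroup L37A.R) ≤ 1876896 :=
  ⟨upper0.1, le_trans upper0.2 (by norm_num)⟩

end Cfsg.Agent.Helper28.L37C
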