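import Cfsg.Agent.Helper28.L37C.Chain
import Cfsg.Agent.Helper28.L37C.Upper
import Cfsg.Agent.Helper28.L37Q.Main
import Cfsg.Agent.Helper28.ChainMain2
set_option autoImplicit false
set_option maxRecDepth 1000000
namespace Cfsg.Agent.Helper28.L37C
open Cfsg.Agent.Helper28 Cfsg.Agent.Helper28.L37B Cfsg.Spor

theorem hrels : ∀ r ∈ L37B.R, rhoF idx 2 ptabs inv_ok layout.hL r = 1 :=
  layout.hrels inv_ok hperm_all

theorem card_inj : Nat.card (PresentedGroup L37B.R) = 1876896 ∧
    Function.Injective (rhoG L37B.R idx 2 ptabs inv_ok layout.hL hrels) :=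
  card_eq_and_injective L37B.R idx 2 ptabs inv_ok layout.hL hrels 1876896 upper.1 upper.2 lower_bound

/-- the word of `x ^ 19` -/
def wp : List Nat := [2, 2, 2, 2, 2, 2, 2, 2, 2, 2, 2, 2, 2, 2, 2, 2, 2, 2, 2]

theorem hwp : ev gen 2 wp = L37QD.xw ^ 19 := by decide +kernel
theorem hletp : ∀ l ∈ wp, l < ptabs.L := by decide +kernel
theorem hrelp : relOk ptabs wp 0 ptabs.n = true := by decide +kernel

theorem hYQ : L37Q.Y = ∅ := by
  ext y; simp [L37Q.Ylist]

theorem hnc : ∀ Nn : Subgroup (PresentedGroup L37B.R), Nn.Normal →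
    PresentedGroup.mk L37B.R L37QD.xw ∈ Nn → Nn = ⊤ := by
  intro Nn hN hx
  refine normal_eq_top_of_collapse L37B.R L37Q.R L37QD.xw ?_
    (subsingleton_of_index_bot L37Q.R L37Q.Y hYQ L37Q.main_index) Nn hN hx
  intro r hr
  rcases hr with hr | hr
  · exact Or.inl (Or.inl hr)
  · have hr' : r ∈ L37P.extra ++ [L37QD.xw] := hr
    rcases List.mem_append.mp hr' with h | h
    · exact Or.inl (Or.inr h)
    · exact Or.inr (List.mem_singleton.mp h)

/-- sizes of the orbits of the point stabiliser -/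
def sz (t : ℕ) : ℕ := if t = 1 then 56 else 1

theorem hsz : ∀ t ∈ [1, 0].toFinset, countEq (fun j => oRoot (orb2 j)) t ptabs.n = sz t := by
  intro t ht
  simp only [List.toFinset_cons, List.toFinset_nil, Finset.mem_insert, Finset.mem_singleton,
    insert_empty_eq] at ht
  rcases ht with rfl | rfl
  · exact cnt2
  · exact cnt2_0

theorem hdiv : ∀ T ∈ ([1, 0].toFinset : Finset ℕ).powerset, 0 ∈ T → (∑ t ∈ T, sz t) ∣ ptabs.n →
    T = {0} ∨ T = [1, 0].toFinset := by
  decide

theorem simple : IsSimpleGroup (PresentedGroup L37B.R) :=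
  simple_of_chain L37B.R gen idx 2 ptabs inv_ok layout.hL hrels 1876896 upper.1 card_inj.1 card_inj.2
    layout.hig hn ws1 2 let_ok1 fix_ok1 orb1 orb_ok1 root_ok1
    ws2 3 let_ok2 fix_ok2 orb2 orb_ok2 [1, 0].toFinset (rootsOkW_sound orb2 _ _ roots_ok2) sz hsz
    (by decide +kernel) rfl hdiv L37QD.xw 19 wp hwp hletp hrelp (by decide +kernel) hnc (by norm_num)

end Cfsg.Agent.Helper28.L37C
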